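import Cfsg.Agent.Lib.Sporadic.ConwayKeys
import Cfsg.Agent.Lib.Sporadic.ConwaySmallSimple
import Cfsg.Agent.Lib.Sporadic.MultCoPoints.KeyTrie

/-!
# The generators on the listed vectors
-/

set_option autoImplicit false
set_option maxRecDepth 100000

namespace CfsgLib.Sporadic.CoThreeMult

open Cfsg CfsgLib.ThreeTrans.Leech CfsgLib.Sporadic.Lattice CfsgLib.Sporadic.Conway
open CfsgLib.Schur.Cert (pgetN RepN wordImgN wval Word LinCert)
open scoped Pointwise

attribute [local irreducible] OTree.entries coThreeSplitsTree

local notation "G₃" => Subtype fun g : ↥Co0 => g ∈ fixGroup [fiveElt]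

theorem gen_word0 : Numbered.wordOK [kFive] MultCoPoints.keys 552 (coThreeSplitsGens.getD 0 [])
    (MultCoPoints.perms.getD 0 0) = true := 
  wordOK_of_parts MultCoPoints.keyTrie_ok MultCoPoints.keys_length (by decide +kernel) (by decide +kernel)

theorem gen_word1 : Numbered.wordOK [kFive] MultCoPoints.keys 552 (coThreeSplitsGens.getD 1 [])
    (MultCoPoints.perms.getD 1 0) = true := 
  wordOK_of_parts MultCoPoints.keyTrie_ok MultCoPoints.keys_length (by decide +kernel) (by decide +kernel)

theorem gen_word2 : Numbered.wordOK [kFive] MultCoPoints.keys 552 (coThreeSplitsGens.getD 2 [])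
    (MultCoPoints.perms.getD 2 0) = true := 
  wordOK_of_parts MultCoPoints.keyTrie_ok MultCoPoints.keys_length (by decide +kernel) (by decide +kernel)

theorem gen_word3 : Numbered.wordOK [kFive] MultCoPoints.keys 552 (coThreeSplitsGens.getD 3 [])
    (MultCoPoints.perms.getD 3 0) = true := 
  wordOK_of_parts MultCoPoints.keyTrie_ok MultCoPoints.keys_length (by decide +kernel) (by decide +kernel)

theorem gen_word4 : Numbered.wordOK [kFive] MultCoPoints.keys 552 (coThreeSplitsGens.getD 4 [])
    (MultCoPoints.perms.getD 4 0) = true := 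
  wordOK_of_parts MultCoPoints.keyTrie_ok MultCoPoints.keys_length (by decide +kernel) (by decide +kernel)

theorem gen_word5 : Numbered.wordOK [kFive] MultCoPoints.keys 552 (coThreeSplitsGens.getD 5 [])
    (MultCoPoints.perms.getD 5 0) = true := 
  wordOK_of_parts MultCoPoints.keyTrie_ok MultCoPoints.keys_length (by decide +kernel) (by decide +kernel)

theorem gen_inv : (forallLt 6 fun j => forallLt 552 fun x =>
    Nat.beq (pgetN (MultCoPoints.pinvs.getD j 0) (pgetN (MultCoPoints.perms.getD j 0) x)) x) = true := by decide +kernel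

end CfsgLib.Sporadic.CoThreeMult
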